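import Mathlib
import Cfsg.Prelude.Def_Solvable
import Cfsg.Prelude.Def_Transfer
import Cfsg.Prelude.Def_Local
import Cfsg.Agent.Lib.Cores
import Cfsg.Agent.PLocal.ThompsonJ
import Cfsg.Agent.PLocal.PConstrained
import Cfsg.Agent.PLocal.CoprimeLift
import Cfsg.Agent.PLocal.S4FreeNoS3
import Cfsg.Agent.PLocal.S4FreeClosure
import Cfsg.Agent.Transfer.ThompsonReduction
set_option linter.all false

/-!
# `S₄`-free `2`-constrained groups with a Sylow `2`-subgroup of class at most two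

`G = N_G(J_e(S)) O_{2'}(G)`. Proof: `O_{2'}(G) = 1`, `Q = O_2(G)`, `W = ⟨Ω₁(Z(S))^G⟩`. By Stellmacher's closure theorem
`W` is not offended by `S`; as `S` has class at most two, `C_S(W) ≤ Q`. So the elementary abelian subgroups of largest
order of `S` lie in `Q`.
-/

set_option autoImplicit false

universe u

namespace Cfsg.Agent.H41.ClassTwoFactor

open Cfsg Subgroup
open scoped commutatorElement
open Cfsg.Agent.PLocal.S4FreeClosureBasic Cfsg.Agent.PLocal.S4FreeClosure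

section basic

variable {G : Type u} [Group G]

/-- If `y` commutes with `w = [y, x]` and the orders are coprime then `w = 1`. -/
theorem eq_one_of_commute {y x w : G} (hw : y * x * y⁻¹ * x⁻¹ = w) (hc : y * w = w * y) {m n : ℕ}
    (hy : y ^ m = 1) (hwn : w ^ n = 1) (hmn : m.Coprime n) : w = 1 := by
  have h1 : ∀ k : ℕ, y ^ k * x * (y ^ k)⁻¹ = w ^ k * x := by
    intro k
    induction k with
    | zero => simp
    | succ k ih =>
      have hc' : y * w ^ k = w ^ k * y := (Commute.pow_right (show Commute y w from hc) k).eq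
      calc y ^ (k + 1) * x * (y ^ (k + 1))⁻¹ = y * (y ^ k * x * (y ^ k)⁻¹) * y⁻¹ := by
            rw [pow_succ']; group
        _ = y * w ^ k * x * y⁻¹ := by rw [ih]; group
        _ = w ^ k * (y * x * y⁻¹ * x⁻¹) * x := by rw [hc']; group
        _ = w ^ (k + 1) * x := by rw [hw, pow_succ]
  have h2 := h1 m
  rw [hy] at h2
  have h3 : w ^ m = 1 := by
    have h4 : w ^ m * x = x := by rw [← h2]; group
    exact mul_eq_right.mp h4
  have h5 : orderOf w ∣ 1 := by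
    have h6 := Nat.dvd_gcd (orderOf_dvd_of_pow_eq_one h3) (orderOf_dvd_of_pow_eq_one hwn)
    rwa [hmn] at h6
  exact orderOf_eq_one_iff.mp (Nat.dvd_one.mp h5)

/-- The elements acting trivially on `Q` modulo `Z`. -/
def centMod (Q Z : Subgroup G) [hQ : Q.Normal] [hZ : Z.Normal] : Subgroup G where
  carrier := {g | ∀ q ∈ Q, g * q * g⁻¹ * q⁻¹ ∈ Z}
  mul_mem' := by
    intro g h hg hh q hq
    have h1 := hZ.conj_mem _ (hh q hq) g
    have h2 := Z.mul_mem h1 (hg q hq)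
    have h3 : g * h * q * (g * h)⁻¹ * q⁻¹ = g * (h * q * h⁻¹ * q⁻¹) * g⁻¹ * (g * q * g⁻¹ * q⁻¹) := by group
    rwa [h3]
  one_mem' := by
    intro q _
    have : (1 : G) * q * 1⁻¹ * q⁻¹ = 1 := by group
    rw [this]; exact Z.one_mem
  inv_mem' := by
    intro g hg q hq
    have h1 := hZ.conj_mem _ (Z.inv_mem (hg q hq)) g⁻¹
    have h2 : g⁻¹ * q * g⁻¹⁻¹ * q⁻¹ = g⁻¹ * (g * q * g⁻¹ * q⁻¹)⁻¹ * g⁻¹⁻¹ := by group
    rwa [h2]

theorem mem_centMod {Q Z : Subgroup G} [Q.Normal] [Z.Normal] {g : G} :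
    g ∈ centMod Q Z ↔ ∀ q ∈ Q, g * q * g⁻¹ * q⁻¹ ∈ Z := Iff.rfl

theorem centMod_normal (Q Z : Subgroup G) [hQ : Q.Normal] [hZ : Z.Normal] : (centMod Q Z).Normal := by
  refine ⟨fun g hg x q hq => ?_⟩
  have h1 : x⁻¹ * q * x ∈ Q := by
    have := hQ.conj_mem q hq x⁻¹
    rwa [inv_inv] at this
  have h2 := hZ.conj_mem _ (hg _ h1) x
  have h3 : x * g * x⁻¹ * q * (x * g * x⁻¹)⁻¹ * q⁻¹ =
      x * (g * (x⁻¹ * q * x) * g⁻¹ * (x⁻¹ * q * x)⁻¹) * x⁻¹ := by group
  rwa [h3]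

/-- The elements of order at most two of an abelian normal subgroup. -/
def omega (Z : Subgroup G) (hab : ∀ x ∈ Z, ∀ y ∈ Z, x * y = y * x) : Subgroup G where
  carrier := {z | z ∈ Z ∧ z * z = 1}
  mul_mem' := by
    rintro x y ⟨hx, hx2⟩ ⟨hy, hy2⟩
    refine ⟨Z.mul_mem hx hy, ?_⟩
    calc x * y * (x * y) = x * (y * x) * y := by group
      _ = x * (x * y) * y := by rw [hab x hx y hy]
      _ = (x * x) * (y * y) := by group
      _ = 1 := by rw [hx2, hy2, one_mul]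
  one_mem' := ⟨Z.one_mem, one_mul 1⟩
  inv_mem' := by
    rintro x ⟨hx, hx2⟩
    exact ⟨Z.inv_mem hx, by rw [← mul_inv_rev, hx2, inv_one]⟩

theorem mem_omega {Z : Subgroup G} {hab : ∀ x ∈ Z, ∀ y ∈ Z, x * y = y * x} {z : G} :
    z ∈ omega Z hab ↔ z ∈ Z ∧ z * z = 1 := Iff.rfl

theorem omega_normal (Z : Subgroup G) (hab : ∀ x ∈ Z, ∀ y ∈ Z, x * y = y * x) [hZ : Z.Normal] :
    (omega Z hab).Normal := by
  refine ⟨fun z hz x => ⟨hZ.conj_mem z hz.1 x, ?_⟩⟩
  calc x * z * x⁻¹ * (x * z * x⁻¹) = x * (z * z) * x⁻¹ := by group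
    _ = 1 := by rw [hz.2]; group

end basic

section main

variable {G : Type u} [Group G] [Finite G]

/-- The elements of `S` centralizing `⟨Ω₁(Z(S))^G⟩` lie in `O_2(G)`, for `S` of class at most two. -/
theorem mem_pCore_of_centralizes (S : Sylow 2 G)
    (hcl : ∀ x ∈ S, ∀ y ∈ S, ∀ z ∈ S, x * y * x⁻¹ * y⁻¹ * z = z * (x * y * x⁻¹ * y⁻¹))
    (hc : Subgroup.centralizer (pCore 2 G : Set G) ≤ pCore 2 G) (W : Subgroup G) (hWn : W.Normal)
    (hW : ∀ x ∈ S, (∀ y ∈ S, x * y = y * x) → x * x = 1 → x ∈ W) (s : G) (hs : s ∈ S)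
    (hsW : ∀ w ∈ W, s * w = w * s) : s ∈ pCore 2 G := by
  obtain ⟨Q, hQ⟩ : ∃ Q : Subgroup G, Q = pCore 2 G := ⟨_, rfl⟩
  have hQn : Q.Normal := by rw [hQ]; exact Lib.Cores.pCore_normal 2
  have hQp : IsPGroup 2 Q := by rw [hQ]; exact Lib.Cores.pCore_isPGroup 2
  have hQS : ∀ q ∈ Q, q ∈ S := by
    intro q hq
    rw [hQ] at hq
    exact Lib.Cores.pCore_le_sylow S hq
  have hQmax : ∀ N : Subgroup G, N.Normal → IsPGroup 2 N → N ≤ Q := by
    intro N h1 h2; rw [hQ]; exact Lib.Cores.le_pCore h1 h2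
  have hcQ : ∀ g : G, (∀ q ∈ Q, q * g = g * q) → g ∈ Q := by
    intro g hg
    rw [hQ]
    apply hc
    rw [Subgroup.mem_centralizer_iff]
    intro q hq
    exact hg q (by rw [hQ]; exact hq)
  rw [← hQ]
  -- `Z = ⟨Z(S)^G⟩`
  let ZS : Set G := {x | x ∈ S ∧ ∀ y ∈ S, x * y = y * x}
  obtain ⟨Z, hZ⟩ : ∃ Z : Subgroup G, Z = Subgroup.normalClosure ZS := ⟨_, rfl⟩
  have hZn : Z.Normal := by rw [hZ]; exact Subgroup.normalClosure_normal
  have hZSZ : ZS ⊆ Z := by rw [hZ]; exact Subgroup.subset_normalClosure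
  have hZSQ : ∀ x ∈ ZS, x ∈ Q := fun x hx => hcQ x (fun q hq => (hx.2 q (hQS q hq)).symm)
  have hZQ : Z ≤ Q := by
    rw [hZ]
    exact Subgroup.normalClosure_le_normal hZSQ
  -- `Z` is central in `Q`
  have hZcent : ∀ z ∈ Z, ∀ q ∈ Q, z * q = q * z := by
    have h1 : Z ≤ Subgroup.centralizer (Q : Set G) := by
      rw [hZ]
      apply Subgroup.normalClosure_le_normal
      intro x hx
      change x ∈ Subgroup.centralizer (Q : Set G)
      rw [Subgroup.mem_centralizer_iff]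
      intro q hq
      exact (hx.2 q (hQS q hq)).symm
    intro z hz q hq
    exact ((Subgroup.mem_centralizer_iff.mp (h1 hz)) q hq).symm
  have hZab : ∀ x ∈ Z, ∀ y ∈ Z, x * y = y * x := fun x hx y hy => hZcent x hx y (hZQ hy)
  obtain ⟨Om, hOm⟩ : ∃ Om : Subgroup G, Om = omega Z hZab := ⟨_, rfl⟩
  have hOmn : Om.Normal := by rw [hOm]; exact omega_normal Z hZab
  have hOmmem : ∀ z, z ∈ Om ↔ z ∈ Z ∧ z * z = 1 := by intro z; rw [hOm]; exact mem_omega
  -- the group `C = C_G(W)` and `L`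
  have hCn : (Subgroup.centralizer (W : Set G)).Normal := inferInstance
  let X : Set G := {x | x ∈ S ∧ ∀ w ∈ W, x * w = w * x}
  obtain ⟨L, hL⟩ : ∃ L : Subgroup G, L = Subgroup.normalClosure X := ⟨_, rfl⟩
  have hLn : L.Normal := by rw [hL]; exact Subgroup.normalClosure_normal
  have hXL : X ⊆ L := by rw [hL]; exact Subgroup.subset_normalClosure
  have hLC : L ≤ Subgroup.centralizer (W : Set G) := by
    rw [hL]
    apply Subgroup.normalClosure_le_normal
    intro x hx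
    change x ∈ Subgroup.centralizer (W : Set G)
    rw [Subgroup.mem_centralizer_iff]
    intro w hw
    exact (hx.2 w hw).symm
  have hLW : ∀ l ∈ L, ∀ w ∈ W, l * w = w * l := fun l hl w hw =>
    ((Subgroup.mem_centralizer_iff.mp (hLC hl)) w hw).symm
  have hLQ : L ≤ centMod Q Z := by
    rw [hL]
    have := centMod_normal Q Z
    apply Subgroup.normalClosure_le_normal
    intro x hx q hq
    apply hZSZ
    refine ⟨?_, ?_⟩
    · exact mul_mem (mul_mem (mul_mem hx.1 (hQS q hq)) (inv_mem hx.1)) (inv_mem (hQS q hq))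
    · intro y hy
      exact hcl x hx.1 q (hQS q hq) y hy
  have hLOm : L ≤ centMod Om W := by
    rw [hL]
    have := centMod_normal Om W
    apply Subgroup.normalClosure_le_normal
    intro x hx q hq
    have hqS : q ∈ S := hQS q (hZQ ((hOmmem q).mp hq).1)
    have h1 : x * q * x⁻¹ * q⁻¹ ∈ Om := Om.mul_mem (hOmn.conj_mem q hq x) (Om.inv_mem hq)
    apply hW
    · exact mul_mem (mul_mem (mul_mem hx.1 hqS) (inv_mem hx.1)) (inv_mem hqS)
    · intro y hy
      exact hcl x hx.1 q hqS y hy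
    · exact ((hOmmem _).mp h1).2
  -- elements of `Q` are 2-elements
  have hQ2 : ∀ q ∈ Q, ∃ k : ℕ, q ^ 2 ^ k = 1 := by
    intro q hq
    obtain ⟨k, hk⟩ := hQp ⟨q, hq⟩
    exact ⟨k, congrArg Subtype.val hk⟩
  have hcop : ∀ m k : ℕ, Odd m → m.Coprime (2 ^ k) := fun m k hm =>
    Nat.Coprime.pow_right k (Nat.coprime_two_right.mpr hm)
  -- elements of odd order of `L` are trivial
  have hodd : ∀ y ∈ L, ∀ m : ℕ, Odd m → y ^ m = 1 → y = 1 := by
    intro y hy m hm hym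
    have hyOm : ∀ x ∈ Om, y * x * y⁻¹ * x⁻¹ = 1 := by
      intro x hx
      have h1 := hLOm hy x hx
      have h2 : y * x * y⁻¹ * x⁻¹ ∈ Om := Om.mul_mem (hOmn.conj_mem x hx y) (Om.inv_mem hx)
      refine eq_one_of_commute rfl (hLW y hy _ h1) hym (n := 2) ?_ (Nat.coprime_two_right.mpr hm)
      rw [pow_two]
      exact ((hOmmem _).mp h2).2
    have hyZ : ∀ k : ℕ, ∀ z ∈ Z, z ^ 2 ^ k = 1 → y * z * y⁻¹ * z⁻¹ = 1 := by
      intro k
      induction k with
      | zero =>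
        intro z _ hz
        rw [pow_zero, pow_one] at hz
        rw [hz]; group
      | succ k ih =>
        intro z hz hzk
        have h1 : z * z ∈ Z := Z.mul_mem hz hz
        have h2 : (z * z) ^ 2 ^ k = 1 := by
          rw [← pow_two, ← pow_mul, ← pow_succ']
          exact hzk
        have h3 := ih (z * z) h1 h2
        have hwZ : y * z * y⁻¹ * z⁻¹ ∈ Z := Z.mul_mem (hZn.conj_mem z hz y) (Z.inv_mem hz)
        have hyzZ : y * z * y⁻¹ ∈ Z := hZn.conj_mem z hz y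
        have hw2 : (y * z * y⁻¹ * z⁻¹) * (y * z * y⁻¹ * z⁻¹) = 1 := by
          calc (y * z * y⁻¹ * z⁻¹) * (y * z * y⁻¹ * z⁻¹)
              = (y * z * y⁻¹) * (z⁻¹ * (y * z * y⁻¹)) * z⁻¹ := by group
            _ = (y * z * y⁻¹) * ((y * z * y⁻¹) * z⁻¹) * z⁻¹ := by
                rw [hZab _ (Z.inv_mem hz) _ hyzZ]
            _ = y * (z * z) * y⁻¹ * (z * z)⁻¹ := by group
            _ = 1 := h3
        have hwOm : y * z * y⁻¹ * z⁻¹ ∈ Om := (hOmmem _).mpr ⟨hwZ, hw2⟩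
        have h4 := hyOm _ hwOm
        refine eq_one_of_commute rfl ?_ hym (n := 2) (by rw [pow_two]; exact hw2)
          (Nat.coprime_two_right.mpr hm)
        rw [mul_inv_eq_one, mul_inv_eq_iff_eq_mul] at h4
        exact h4
    have hyQ : ∀ q ∈ Q, q * y = y * q := by
      intro q hq
      have h1 : y * q * y⁻¹ * q⁻¹ ∈ Z := hLQ hy q hq
      obtain ⟨k, hk⟩ := hQ2 _ (hZQ h1)
      have h2 := hyZ k _ h1 hk
      rw [mul_inv_eq_one, mul_inv_eq_iff_eq_mul] at h2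
      have h3 := eq_one_of_commute rfl h2 hym hk (hcop m k hm)
      rw [mul_inv_eq_one, mul_inv_eq_iff_eq_mul] at h3
      exact h3.symm
    have hyQ' : y ∈ Q := hcQ y hyQ
    obtain ⟨k, hk⟩ := hQ2 y hyQ'
    have h5 : orderOf y ∣ 1 := by
      have h6 := Nat.dvd_gcd (orderOf_dvd_of_pow_eq_one hym) (orderOf_dvd_of_pow_eq_one hk)
      rwa [hcop m k hm] at h6
    exact orderOf_eq_one_iff.mp (Nat.dvd_one.mp h5)
  have hL2 : IsPGroup 2 L := by
    rintro ⟨l, hl⟩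
    obtain ⟨k, m, hm, hkm⟩ := Nat.exists_eq_two_pow_mul_odd (orderOf_pos l).ne'
    refine ⟨k, Subtype.ext ?_⟩
    change l ^ 2 ^ k = 1
    refine hodd _ (L.pow_mem hl _) m hm ?_
    rw [← pow_mul, ← hkm, pow_orderOf_eq_one]
  exact hQmax L hLn hL2 (hXL ⟨hs, hsW⟩)

/-- The elementary abelian subgroups of largest order lie in `O_2(G)`. -/
theorem max_le_pCore
    (h4 : ¬ ∃ (K R : Subgroup G) (hR : (R.subgroupOf K).Normal),
      Nonempty ((K ⧸ R.subgroupOf K) ≃* Equiv.Perm (Fin 4))) (S : Sylow 2 G)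
    (hcl : ∀ x ∈ S, ∀ y ∈ S, ∀ z ∈ S, x * y * x⁻¹ * y⁻¹ * z = z * (x * y * x⁻¹ * y⁻¹))
    (hc : Subgroup.centralizer (pCore 2 G : Set G) ≤ pCore 2 G) (A : Subgroup G)
    (hA : A ∈ maxElementaryAbelianSubgroups 2 G) (hAS : A ≤ (S : Subgroup G)) : A ≤ pCore 2 G := by
  have hQn : (pCore 2 G).Normal := Lib.Cores.pCore_normal 2
  have hQS : pCore 2 G ≤ (S : Subgroup G) := Lib.Cores.pCore_le_sylow S
  rw [PLocal.ThompsonJ.mem_maxElementaryAbelianSubgroups_iff] at hA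
  obtain ⟨hAe, hAmax⟩ := hA
  -- the centre of `O_2(G)`
  obtain ⟨Z, hZ⟩ : ∃ Z : Subgroup G, Z = pCore 2 G ⊓ Subgroup.centralizer (pCore 2 G : Set G) := ⟨_, rfl⟩
  have hZn : Z.Normal := by rw [hZ]; infer_instance
  have hZab : ∀ x ∈ Z, ∀ y ∈ Z, x * y = y * x := by
    intro x hx y hy
    rw [hZ] at hx hy
    exact ((Subgroup.mem_centralizer_iff.mp (Subgroup.mem_inf.mp hx).2) y (Subgroup.mem_inf.mp hy).1).symm
  obtain ⟨V, hV⟩ : ∃ V : Subgroup G, V = omega Z hZab := ⟨_, rfl⟩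
  have hVn : V.Normal := by rw [hV]; exact omega_normal Z hZab
  have hVmem : ∀ z, z ∈ V ↔ z ∈ Z ∧ z * z = 1 := by intro z; rw [hV]; exact mem_omega
  have hVab : ∀ x y : V, x * y = y * x := fun x y =>
    Subtype.ext (hZab x ((hVmem _).mp x.2).1 y ((hVmem _).mp y.2).1)
  let _ : CommGroup V := { mul_comm := hVab }
  let φ : G →* MulAut V := MulAut.conjNormal
  have hφ : ∀ (g : G) (v : V), ((φ g v : V) : G) = g * v * g⁻¹ := fun g v => MulAut.conjNormal_apply g v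
  have hexp : ∀ v : V, v * v = 1 := fun v => Subtype.ext ((hVmem _).mp v.2).2
  have hS3 : PLocal.SFourOffender.NoS3 φ :=
    PLocal.S4FreeNoS3.noS3_of_normal h4 hexp (MulEquiv.refl V) φ (fun g a => rfl)
  -- `U = Ω₁(Z(S))`
  let U : Subgroup V :=
    { carrier := {v | ∀ y ∈ S, (v : G) * y = y * v}
      mul_mem' := by
        intro a b ha hb y hy
        change (a : G) * b * y = y * (a * b)
        rw [mul_assoc, hb y hy, ← mul_assoc, ha y hy, mul_assoc]
      one_mem' := by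
        intro y _
        change (1 : G) * y = y * 1
        rw [one_mul, mul_one]
      inv_mem' := by
        intro a ha y hy
        change (a : G)⁻¹ * y = y * (a : G)⁻¹
        have h1 : Commute (a : G) y := ha y hy
        exact (h1.inv_left).eq }
  have hUmem : ∀ v : V, v ∈ U ↔ ∀ y ∈ S, (v : G) * y = y * v := fun _ => Iff.rfl
  have hSU : ∀ s ∈ S, ∀ u ∈ U, φ s u = u := by
    intro s hs u hu
    apply Subtype.ext
    rw [hφ, ← (hUmem u).mp hu s hs]
    group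
  have hUoff : Unoff φ (S : Subgroup G) U := by
    refine ⟨fun a ha u hu => ?_, fun B hB _ _ b hb => ?_⟩
    · rw [hSU a ha u hu]; exact hu
    · rw [mem_cn]
      intro u hu
      exact hSU b (hB hb) u hu
  obtain ⟨W, hWdef⟩ : ∃ W : Subgroup V, W = ⨆ x : G, im φ x U := ⟨_, rfl⟩
  have hWoff : Unoff φ (S : Subgroup G) W := by
    rw [hWdef]
    exact unoff_iSup hexp hS3 S hUoff
  have hUW : U ≤ W := by
    rw [hWdef]
    refine le_trans ?_ (le_iSup (fun x : G => im φ x U) 1)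
    intro u hu
    rw [mem_im]
    simpa using hu
  have hWinv : ∀ g, ∀ w ∈ W, φ g w ∈ W := by
    intro g w hw
    rw [hWdef] at hw ⊢
    have h1 : (⨆ x : G, im φ x U) ≤ (⨆ x : G, im φ x U).comap (φ g).toMonoidHom := by
      refine iSup_le fun x => ?_
      rintro _ ⟨u, hu, rfl⟩
      refine (le_iSup (fun x : G => im φ x U) (g * x)) ⟨u, hu, ?_⟩
      change φ (g * x) u = φ g (φ x u)
      rw [map_mul, MulAut.mul_apply]
    exact h1 hw
  -- `W` in `G`
  obtain ⟨W', hW'⟩ : ∃ W' : Subgroup G, W' = W.map V.subtype := ⟨_, rfl⟩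
  have hW'mem : ∀ x : G, x ∈ W' ↔ ∃ h : x ∈ V, (⟨x, h⟩ : V) ∈ W := by
    intro x
    rw [hW']
    constructor
    · rintro ⟨v, hv, rfl⟩
      exact ⟨v.2, hv⟩
    · rintro ⟨h, hx⟩
      exact ⟨⟨x, h⟩, hx, rfl⟩
  have hW'V : W' ≤ V := by rw [hW']; exact Subgroup.map_subtype_le W
  have hW'n : W'.Normal := by
    refine ⟨fun x hx g => ?_⟩
    rw [hW'mem] at hx ⊢
    obtain ⟨h, hx⟩ := hx
    refine ⟨hVn.conj_mem x h g, ?_⟩
    have h1 := hWinv g _ hx
    have h2 : φ g ⟨x, h⟩ = ⟨g * x * g⁻¹, hVn.conj_mem x h g⟩ := Subtype.ext (hφ g ⟨x, h⟩)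
    rwa [h2] at h1
  have hVQ : V ≤ pCore 2 G := by
    intro v hv
    have h1 := ((hVmem v).mp hv).1
    rw [hZ] at h1
    exact h1.1
  have hUG : ∀ x ∈ S, (∀ y ∈ S, x * y = y * x) → x * x = 1 → x ∈ W' := by
    intro x hx hxy hx2
    have h1 : x ∈ Subgroup.centralizer (pCore 2 G : Set G) := by
      rw [Subgroup.mem_centralizer_iff]
      intro q hq
      exact (hxy q (hQS hq)).symm
    have h2 : x ∈ V := by
      rw [hVmem, hZ]
      exact ⟨⟨hc h1, h1⟩, hx2⟩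
    rw [hW'mem]
    exact ⟨h2, hUW ((hUmem ⟨x, h2⟩).mpr hxy)⟩
  -- `A` acts trivially on `W`
  have hcnW : ∀ s ∈ S, s ∈ cn φ W → s ∈ pCore 2 G := by
    intro s hs hsW
    refine mem_pCore_of_centralizes S hcl hc W' hW'n hUG s hs ?_
    intro w hw
    obtain ⟨h, hw'⟩ := (hW'mem w).mp hw
    have h1 := congrArg Subtype.val (mem_cn.mp hsW _ hw')
    rw [hφ] at h1
    exact mul_inv_eq_iff_eq_mul.mp h1
  have hAab : ∀ a ∈ A, ∀ b ∈ A, a * b = b * a := fun a ha b hb =>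
    PLocal.ThompsonJ.isElementaryAbelian_comm hAe ha hb
  have hAb : AbOn φ A W := by
    intro a ha b hb u _
    rw [← MulAut.mul_apply, ← MulAut.mul_apply, ← map_mul, ← map_mul, hAab a ha b hb]
  have hcard : Nat.card W ≤ ms φ W A := by
    let A₀ : Subgroup G := A ⊓ cn φ W
    have hA₀W : ∀ a ∈ A₀, ∀ w ∈ W', a * w = w * a := by
      intro a ha w hw
      obtain ⟨h, hw'⟩ := (hW'mem w).mp hw
      have h1 := congrArg Subtype.val (mem_cn.mp ha.2 _ hw')
      rw [hφ] at h1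
      exact mul_inv_eq_iff_eq_mul.mp h1
    have hW'ab : ∀ x ∈ W', ∀ y ∈ W', x * y = y * x := fun x hx y hy =>
      hZab x ((hVmem _).mp (hW'V hx)).1 y ((hVmem _).mp (hW'V hy)).1
    have hE : IsElementaryAbelian 2 (A₀ ⊔ W') := by
      rw [PLocal.ThompsonJ.isElementaryAbelian_iff]
      have hmem : ∀ x ∈ A₀ ⊔ W', ∃ a ∈ A₀, ∃ w ∈ W', a * w = x := fun x hx =>
        Subgroup.mem_sup_of_normal_right.mp hx
      refine ⟨?_, ?_⟩
      · intro x hx y hy
        obtain ⟨a, ha, w, hw, rfl⟩ := hmem x hx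
        obtain ⟨b, hb, v, hv, rfl⟩ := hmem y hy
        calc a * w * (b * v) = a * (w * b) * v := by group
          _ = a * (b * w) * v := by rw [hA₀W b hb w hw]
          _ = (a * b) * (w * v) := by group
          _ = (b * a) * (v * w) := by rw [hAab a ha.1 b hb.1, hW'ab w hw v hv]
          _ = b * (a * v) * w := by group
          _ = b * (v * a) * w := by rw [hA₀W a ha v hv]
          _ = b * v * (a * w) := by group
      · intro x hx
        obtain ⟨a, ha, w, hw, rfl⟩ := hmem x hx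
        have h1 : a ^ 2 = 1 := PLocal.ThompsonJ.isElementaryAbelian_pow hAe ha.1
        have h2 : w * w = 1 := ((hVmem _).mp (hW'V hw)).2
        rw [(show Commute a w from hA₀W a ha w hw).mul_pow, h1, pow_two, h2, one_mul]
    have h1 := hAmax _ hE
    -- orders
    have e1 : Nat.card (A₀ ⊔ W' : Subgroup G) = Nat.card W' * W'.relIndex A₀ := by
      rw [← Subgroup.relIndex_sup_right A₀ W']
      exact (PLocal.PConstrained.card_mul_relIndex_eq le_sup_right).symm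
    have e2 : Nat.card A₀ = Nat.card (A₀ ⊓ W' : Subgroup G) * W'.relIndex A₀ := by
      rw [← Subgroup.inf_relIndex_left A₀ W']
      exact (PLocal.PConstrained.card_mul_relIndex_eq inf_le_left).symm
    have e3 : Nat.card A = Nat.card A₀ * (cn φ W).relIndex A := by
      rw [← Subgroup.inf_relIndex_left A (cn φ W)]
      exact (PLocal.PConstrained.card_mul_relIndex_eq inf_le_left).symm
    have e4 : Nat.card (A₀ ⊓ W' : Subgroup G) ≤ Nat.card (W ⊓ fx φ A : Subgroup V) := by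
      have h5 : A₀ ⊓ W' ≤ (W ⊓ fx φ A).map V.subtype := by
        rintro x ⟨hx1, hx2⟩
        obtain ⟨h, hx'⟩ := (hW'mem x).mp hx2
        refine ⟨⟨x, h⟩, ⟨hx', ?_⟩, rfl⟩
        change _ ∈ fx φ A
        rw [mem_fx]
        intro a ha
        apply Subtype.ext
        rw [hφ]
        exact mul_inv_eq_iff_eq_mul.mpr (hAab a ha x hx1.1)
      have h6 := Subgroup.card_le_of_le h5
      rwa [Subgroup.card_map_of_injective V.subtype_injective] at h6
    have e5 : Nat.card W' = Nat.card W := by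
      rw [hW', Subgroup.card_map_of_injective V.subtype_injective]
    have hpos : 0 < W'.relIndex A₀ := Nat.pos_of_ne_zero (W'.subgroupOf A₀).index_ne_zero_of_finite
    change Nat.card W ≤ (cn φ W).relIndex A * Nat.card (W ⊓ fx φ A : Subgroup V)
    rw [e1, e3, e2, e5] at h1
    have h7 : Nat.card W * W'.relIndex A₀ ≤
        ((cn φ W).relIndex A * Nat.card (A₀ ⊓ W' : Subgroup G)) * W'.relIndex A₀ := by
      calc Nat.card W * W'.relIndex A₀ ≤
          Nat.card (A₀ ⊓ W' : Subgroup G) * W'.relIndex A₀ * (cn φ W).relIndex A := h1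
        _ = _ := by ring
    exact (Nat.le_of_mul_le_mul_right h7 hpos).trans (Nat.mul_le_mul_left _ e4)
  have hfin := hWoff.off A hAS hAb hcard
  intro a ha
  exact hcnW a (hAS ha) (hfin ha)

/-- class at most two is inherited by conjugates -/
theorem cl_conj (S S' : Sylow 2 G)
    (hcl : ∀ x ∈ S, ∀ y ∈ S, ∀ z ∈ S, x * y * x⁻¹ * y⁻¹ * z = z * (x * y * x⁻¹ * y⁻¹)) :
    ∀ x ∈ S', ∀ y ∈ S', ∀ z ∈ S', x * y * x⁻¹ * y⁻¹ * z = z * (x * y * x⁻¹ * y⁻¹) := by
  obtain ⟨g, hg⟩ := MulAction.exists_smul_eq G S' S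
  have h1 : ∀ x ∈ S', g * x * g⁻¹ ∈ S := by
    intro x hx
    rw [← hg]
    exact Subgroup.smul_mem_pointwise_smul _ (MulAut.conj g) _ hx
  intro x hx y hy z hz
  have h2 := hcl _ (h1 x hx) _ (h1 y hy) _ (h1 z hz)
  calc x * y * x⁻¹ * y⁻¹ * z = g⁻¹ * ((g * x * g⁻¹) * (g * y * g⁻¹) * (g * x * g⁻¹)⁻¹ * (g * y * g⁻¹)⁻¹ *
        (g * z * g⁻¹)) * g := by group
    _ = g⁻¹ * ((g * z * g⁻¹) * ((g * x * g⁻¹) * (g * y * g⁻¹) * (g * x * g⁻¹)⁻¹ * (g * y * g⁻¹)⁻¹)) * g := by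
        rw [h2]
    _ = z * (x * y * x⁻¹ * y⁻¹) := by group

/-- `J_e(S)` is normal. -/
theorem thompson_normal
    (h4 : ¬ ∃ (K R : Subgroup G) (hR : (R.subgroupOf K).Normal),
      Nonempty ((K ⧸ R.subgroupOf K) ≃* Equiv.Perm (Fin 4))) (S : Sylow 2 G)
    (hcl : ∀ x ∈ S, ∀ y ∈ S, ∀ z ∈ S, x * y * x⁻¹ * y⁻¹ * z = z * (x * y * x⁻¹ * y⁻¹))
    (hc : Subgroup.centralizer (pCore 2 G : Set G) ≤ pCore 2 G) :
    (thompsonSubgroupOf 2 (S : Subgroup G)).Normal := by
  have h1 : thompsonSubgroup 2 G ≤ pCore 2 G := by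
    apply PLocal.ThompsonJ.thompsonSubgroup_le
    intro A hA
    have hAe := (PLocal.ThompsonJ.mem_maxElementaryAbelianSubgroups_iff.mp hA).1
    obtain ⟨S', hS'⟩ := (PLocal.ThompsonJ.isPGroup_of_isElementaryAbelian hAe).exists_le_sylow
    exact max_le_pCore h4 S' (cl_conj S S' hcl) hc A hA hS'
  rw [PLocal.ThompsonJ.thompsonSubgroupOf_eq_of_le (h1.trans (Lib.Cores.pCore_le_sylow S))]
  exact PLocal.ThompsonJ.thompsonSubgroup_normal 2 G

/-- **`G = N_G(J_e(S)) O_{2'}(G)` for `G` `2`-constrained and `S₄`-free with a Sylow `2`-subgroup of class at most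
two.** -/
theorem factorization
    (hcon : IsPConstrained 2 G)
    (h4 : ¬ ∃ (K R : Subgroup G) (hR : (R.subgroupOf K).Normal),
      Nonempty ((K ⧸ R.subgroupOf K) ≃* Equiv.Perm (Fin 4))) (S : Sylow 2 G)
    (hcl : Subgroup.lowerCentralSeries (S : Subgroup G) 2 = ⊥) :
    Subgroup.normalizer ((thompsonSubgroupOf 2 (S : Subgroup G)) : Set G) ⊔ pPrimeCore 2 G = ⊤ := by
  have hcl' : ∀ x ∈ S, ∀ y ∈ S, ∀ z ∈ S, x * y * x⁻¹ * y⁻¹ * z = z * (x * y * x⁻¹ * y⁻¹) := by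
    intro x hx y hy z hz
    have h1 : ⁅⁅x, y⁆, z⁆ ∈ Subgroup.lowerCentralSeries (S : Subgroup G) 2 := by
      rw [Subgroup.lowerCentralSeries_succ, Subgroup.lowerCentralSeries_succ, Subgroup.lowerCentralSeries_zero]
      exact Subgroup.commutator_mem_commutator (Subgroup.commutator_mem_commutator hx hy) hz
    rw [hcl, Subgroup.mem_bot, commutatorElement_eq_one_iff_mul_comm, commutatorElement_def] at h1
    exact h1
  obtain ⟨M, hM⟩ : ∃ M : Subgroup G, M = pPrimeCore 2 G := ⟨_, rfl⟩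
  have hMn : M.Normal := by rw [hM]; exact Lib.Cores.pPrimeCore_normal 2
  have hMc : (Nat.card M).Coprime 2 := by rw [hM]; exact Lib.Cores.pPrimeCore_coprime 2
  rw [PLocal.PConstrained.isPConstrained_iff] at hcon
  rw [← hM]
  have hc' : Subgroup.centralizer (pCore 2 (G ⧸ M) : Set (G ⧸ M)) ≤ pCore 2 (G ⧸ M) := by
    subst hM
    exact hcon
  have hs := QuotientGroup.mk'_surjective M
  have hdisj : (S : Subgroup G) ⊓ M = ⊥ := by
    obtain ⟨k, hk⟩ := IsPGroup.iff_card.mp S.isPGroup'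
    exact (Subgroup.disjoint_of_coprime_natCard (by
      rw [hk]; exact (Nat.Coprime.pow_right k hMc).symm)).eq_bot
  have hinj : Set.InjOn (QuotientGroup.mk' M) (S : Subgroup G) := by
    intro x hx y hy hxy
    have h1 : x⁻¹ * y ∈ (S : Subgroup G) ⊓ M :=
      Subgroup.mem_inf.mpr ⟨mul_mem (inv_mem hx) hy, QuotientGroup.eq.mp hxy⟩
    rw [hdisj, Subgroup.mem_bot] at h1
    exact (inv_mul_eq_one.mp h1)
  -- the quotient is `S₄`-free
  have h4' : ¬ ∃ (K R : Subgroup (G ⧸ M)) (hR : (R.subgroupOf K).Normal),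
      Nonempty ((K ⧸ R.subgroupOf K) ≃* Equiv.Perm (Fin 4)) := by
    rintro ⟨K, R, hR, ⟨e⟩⟩
    have h5 := PLocal.S4FreeNoS3.not_s4Free_of_surjective (K.comap (QuotientGroup.mk' M))
      ((e.toMonoidHom.comp (QuotientGroup.mk' (R.subgroupOf K))).comp ((QuotientGroup.mk' M).subgroupComap K))
      (e.surjective.comp ((QuotientGroup.mk'_surjective _).comp
        ((QuotientGroup.mk' M).subgroupComap_surjective_of_surjective K hs)))
    exact h5 h4
  have hcoe : ((S.mapSurjective hs : Sylow 2 (G ⧸ M)) : Subgroup (G ⧸ M)) =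
      (S : Subgroup G).map (QuotientGroup.mk' M) := Sylow.coe_mapSurjective hs S
  have hn := thompson_normal h4' (S.mapSurjective hs) (by
    intro x hx y hy z hz
    have hx' : x ∈ (S : Subgroup G).map (QuotientGroup.mk' M) := hcoe ▸ hx
    have hy' : y ∈ (S : Subgroup G).map (QuotientGroup.mk' M) := hcoe ▸ hy
    have hz' : z ∈ (S : Subgroup G).map (QuotientGroup.mk' M) := hcoe ▸ hz
    obtain ⟨a, ha, rfl⟩ := hx'
    obtain ⟨b, hb, rfl⟩ := hy'
    obtain ⟨c, hc, rfl⟩ := hz'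
    rw [← map_inv, ← map_inv, ← map_mul, ← map_mul, ← map_mul, ← map_mul, ← map_mul, hcl' a ha b hb c hc]) hc'
  rw [hcoe, Transfer.ThompsonReduction.thompsonSubgroupOf_map_of_injOn 2 _ hinj] at hn
  have hJp : IsPGroup 2 (thompsonSubgroupOf 2 (S : Subgroup G)) :=
    S.isPGroup'.to_le (PLocal.ThompsonJ.thompsonSubgroupOf_le_self 2 _)
  have h6 := PLocal.CoprimeLift.map_normalizer_mk M _ hMc hJp
  rw [Subgroup.normalizer_eq_top_iff.mpr hn] at h6
  rw [← QuotientGroup.ker_mk' M, ← Subgroup.comap_map_eq, h6, Subgroup.comap_top]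

end main

end Cfsg.Agent.H41.ClassTwoFactor
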